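import Groth.Agent.EtH0Pair.Main
import Groth.Agent.EtH0Pair.ProperSets
import Mathlib

/-!
# Bijectivity of pullback of global sections along a morphism, from finite schemes over the target
-/

set_option autoImplicit false
set_option backward.isDefEq.respectTransparency false
set_option backward.isDefEq.respectTransparency.types false
set_option linter.style.haveILetI false
set_option linter.unusedSectionVars false
set_option maxHeartbeats 1000000

universe u

open CategoryTheory CategoryTheory.Limits AlgebraicGeometry Opposite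

noncomputable section

namespace Groth.Agent.GabRigH0

open Groth.Agent.EtH0Pair Groth.Agent.EtShLib Groth.Agent.EtShSep

variable {Z X : Scheme.{u}} (i : Z ⟶ X)

/-- locally constant maps descend, on every finite scheme over the target -/
def ExtMap : Prop :=
  ∀ (Y : Scheme.{u}) (π : Y ⟶ X), IsFinite π → ∀ (N : Type u) (f : LocallyConstant ↥(pullback i π) N),
    ∃ g : LocallyConstant Y N, ∀ z, g (pullback.snd i π z) = f z

section Cst

variable {M : Type} [AddCommGroup M]

theorem surjTop_const_map (hext : ∀ (N : Type u) (f : LocallyConstant Z N),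
      ∃ g : LocallyConstant X N, ∀ z : Z, g (i z) = f z) :
    SurjTop i (EtCoh.const X M) := by
  classical
  intro σ
  let C := EtCoh.const X M
  let B := (EtCoh.bc i).obj (EtCoh.top X)
  let fst : B.left ⟶ X := pullback.fst (EtCoh.top X).hom i
  let R := fun (p : B.left) (m : M) =>
    p ∉ EtShriek.sectSupp ((EtCoh.pull i).obj C) B (σ - unitSec i C (EtCoh.top X) (cst m))
  have hex : ∀ p, ∃ m, R p m := fun p => by
    obtain ⟨U, t, q, hq, ht⟩ := exists_unit_near i C σ p
    obtain ⟨m, hm⟩ := exists_cst_near t (pullback.fst U.hom i q)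
    refine ⟨m, ?_⟩
    have h2 : q ∉ EtShriek.sectSupp ((EtCoh.pull i).obj C) ((EtCoh.bc i).obj U)
        (unitSec i C U t - unitSec i C U (C.obj.map (toTopX U).op (cst m))) := by
      rw [← map_sub]
      exact fun h => hm ((EtPushStalk.mem_sectSupp_unit_iff i C U _ q).mp h)
    have h3 := notMem_sub_trans _ ht h2
    rw [← unitSec_map, ← map_sub, notMem_map_iff, hq] at h3
    exact h3
  choose f hf using hex
  have huniq : ∀ p m, R p m → m = f p := fun p m hm => by
    rw [← sub_eq_zero]
    refine eq_zero_of_notMem_cst (X := X) (x := fst p) ?_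
    have h := notMem_sub_trans _ (notMem_neg _ hm) (hf p)
    rw [← map_sub, cst_sub] at h
    exact fun hc => h ((EtPushStalk.mem_sectSupp_unit_iff i C (EtCoh.top X) _ p).mpr hc)
  have hlc : IsLocallyConstant f := IsLocallyConstant.iff_isOpen_fiber.mpr fun m => by
    have e : f ⁻¹' {m} =
        (EtShriek.sectSupp ((EtCoh.pull i).obj C) B (σ - unitSec i C (EtCoh.top X) (cst m)))ᶜ := by
      ext p
      exact ⟨fun h => h ▸ hf p, fun h => (huniq p m h).symm⟩
    rw [e]
    exact (EtSect.isClosed_sectSupp _ _).isOpen_compl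
  let s : Z ⟶ B.left := pullback.lift i (𝟙 Z) (by
    change i ≫ 𝟙 X = 𝟙 Z ≫ i
    rw [Category.comp_id, Category.id_comp])
  haveI : IsIso (pullback.snd (EtCoh.top X).hom i) := inferInstanceAs (IsIso (pullback.snd (𝟙 X) i))
  have hsnd : ∀ p : B.left, s (pullback.snd (EtCoh.top X).hom i p) = p := fun p => by
    have e : pullback.snd (EtCoh.top X).hom i ≫ s = 𝟙 _ := by
      rw [← cancel_mono (pullback.snd (EtCoh.top X).hom i), Category.assoc, Category.id_comp]
      exact (congrArg (pullback.snd (EtCoh.top X).hom i ≫ ·) (pullback.lift_snd _ _ _)).trans (Category.comp_id _)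
    exact (Scheme.Hom.comp_apply _ _ _).symm.trans (congrArg (fun k : B.left ⟶ B.left => k p) e)
  obtain ⟨g, hg⟩ := hext (ULift.{u} M)
    ⟨fun z => ULift.up (f (s z)), (hlc.comp_continuous s.continuous).comp ULift.up⟩
  let O : M → X.Opens := fun m => ⟨g ⁻¹' {ULift.up m}, g.isLocallyConstant.isOpen_fiber _⟩
  obtain ⟨t, ht⟩ := EtColimH.exists_amalg C (fun m => openObj (O m)) (fun m => toTopX _) (fun x =>
    ⟨(g x).down, ⟨x, (show g x = ULift.up (g x).down from rfl)⟩, rfl⟩)
    (fun m => C.obj.map (toTopX (openObj (O m))).op (cst m)) fun m m' T a b hab => by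
    rw [← ConcreteCategory.comp_apply, ← Functor.map_comp, ← op_comp, ← ConcreteCategory.comp_apply,
      ← Functor.map_comp, ← op_comp]
    rcases isEmpty_or_nonempty T.left with hT | ⟨⟨w⟩⟩
    · exact eq_of_notMem C fun x => isEmptyElim x
    · have hw : (O m).ι (a.left w) = (O m').ι (b.left w) :=
        ((Scheme.Hom.comp_apply _ _ _).symm.trans (congrArg (fun h : T ⟶ EtCoh.top X => h.left w) hab)).trans
          (Scheme.Hom.comp_apply _ _ _)
      have h1 : g ((O m).ι (a.left w)) = ULift.up m := (Scheme.Opens.range_ι (O m)).le ⟨_, rfl⟩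
      have h2 : g ((O m').ι (b.left w)) = ULift.up m' := (Scheme.Opens.range_ι (O m')).le ⟨_, rfl⟩
      have hmm : m = m' := congrArg ULift.down (h1.symm.trans ((congrArg g hw).trans h2))
      subst hmm
      rw [hom_top_eq (a ≫ toTopX (openObj (O m))) (b ≫ toTopX (openObj (O m)))]
  refine ⟨t, eq_of_notMem _ fun p => notMem_sub_trans _ ?_ (notMem_neg _ (hf p))⟩
  rw [← map_sub]
  refine fun h => ?_
  have hp := (EtPushStalk.mem_sectSupp_unit_iff i C (EtCoh.top X) _ p).mp h
  have hz : g (fst p) = ULift.up (f p) := by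
    rw [show fst p = i (pullback.snd (EtCoh.top X).hom i p) from fst_top i p, hg]
    exact congrArg (fun q => ULift.up (f q)) (hsnd p)
  refine (EtSect.mem_iff C _ _).mpr ⟨openObj (O (f p)), toTopX _, ⟨⟨fst p, hz⟩, rfl⟩, ?_⟩ hp
  rw [map_sub, sub_eq_zero]
  exact ht (f p)

end Cst

variable [CompactSpace X] [QuasiSeparatedSpace X] [CompactSpace Z] [QuasiSeparatedSpace Z]

theorem surjTop_torsion_map (hV : ∀ V : X.Opens, Set.range i ⊆ V → V = ⊤) (hext : ExtMap i)
    (F : EtCoh.Ab X) (hF : EtCoh.IsTorsion F) : SurjTop i F := by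
  obtain ⟨J, _, _, D, c, hc, hD, ⟨e⟩⟩ := Groth.Agent.S0134.result X F hF
  haveI : IsIso (pullback.snd (EtCoh.top X).hom i) := inferInstanceAs (IsIso (pullback.snd (𝟙 X) i))
  let snd : ((EtCoh.bc i).obj (EtCoh.top X)).left ⟶ Z := pullback.snd (EtCoh.top X).hom i
  haveI : IsIso snd := inferInstanceAs (IsIso (pullback.snd (EtCoh.top X).hom i))
  haveI : CompactSpace ((EtCoh.bc i).obj (EtCoh.top X)).left := QuasiCompact.compactSpace_of_compactSpace snd
  haveI : QuasiSeparatedSpace ((EtCoh.bc i).obj (EtCoh.top X)).left := quasiSeparatedSpace_of_quasiSeparated snd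
  refine (SurjTop.of_isColimit hc fun j => ?_).of_iso e
  obtain ⟨n, Y, f, hf, -, M, _, _, h⟩ := Groth.Agent.S0144.result X (D.obj j) (hD j)
  obtain ⟨ι, hι⟩ := h
  haveI := EtPullExact.pull_preservesFiniteLimits i
  haveI : ∀ k, IsFinite (f k) := hf
  refine SurjTop.of_mono ι hV (SurjTop.biproduct fun k => surjTop_push_finite i (f k) _ ?_)
  exact surjTop_const_map (pullback.snd i (f k)) (hext (Y k) (f k) (hf k))

theorem surjTop_all_map (hV : ∀ V : X.Opens, Set.range i ⊆ V → V = ⊤) (hext : ExtMap i) (F : EtCoh.Ab X) :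
    SurjTop i F := by
  classical
  intro σ
  let T := free2 F
  let B := (EtCoh.bc i).obj (EtCoh.top X)
  choose U t q hq hqt using fun p => exists_unit_near i F σ p
  let O : ∀ p, ((EtCoh.bc i).obj (U p)).left.Opens := fun p =>
    ⟨(EtShriek.sectSupp ((EtCoh.pull i).obj F) ((EtCoh.bc i).obj (U p))
      (((EtCoh.pull i).obj F).obj.map ((EtCoh.bc i).map (toTopX (U p))).op σ - unitSec i F (U p) (t p)))ᶜ,
      (EtSect.isClosed_sectSupp _ _).isOpen_compl⟩
  let Q := fun p => openPiece ((EtCoh.bc i).obj (U p)) (O p)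
  let j := fun p => openPieceHom ((EtCoh.bc i).obj (U p)) (O p)
  have hQ : ∀ p, ((EtCoh.pull i).obj F).obj.map (j p).op
        (((EtCoh.pull i).obj F).obj.map ((EtCoh.bc i).map (toTopX (U p))).op σ) =
      ((EtCoh.pull i).obj F).obj.map (j p).op (unitSec i F (U p) (t p)) := fun p => by
    rw [← sub_eq_zero, ← map_sub]
    refine (EtSect.map_eq_zero_iff _ _ _).mpr ?_
    rintro _ ⟨w, rfl⟩
    exact (Scheme.Opens.range_ι (O p)).le ⟨w, rfl⟩
  -- the image of the section in the free sheaf
  obtain ⟨σT, hσT⟩ := EtColimH.exists_amalg ((EtCoh.pull i).obj T) Q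
    (fun p => j p ≫ (EtCoh.bc i).map (toTopX (U p))) (fun p => by
      obtain ⟨w, hw⟩ : q p ∈ Set.range (O p).ι := (Scheme.Opens.range_ι (O p)).ge (hqt p)
      refine ⟨p, w, ?_⟩
      change ((O p).ι ≫ ((EtCoh.bc i).map (toTopX (U p))).left) w = p
      rw [Scheme.Hom.comp_apply]
      exact (congrArg _ hw).trans (hq p))
    (fun p => ((EtCoh.pull i).obj T).obj.map (j p).op (unitSec i T (U p) (basisSec F (U p) (t p))))
    fun p p' W a b hab => by
      obtain ⟨P, qa, qb, χ, hχa, hχb⟩ := exists_bc_product i (a ≫ j p) (b ≫ j p')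
      have ha : ∀ (G : EtCoh.Ab X) (s : EtCoh.sect G (U p)),
          ((EtCoh.pull i).obj G).obj.map a.op (((EtCoh.pull i).obj G).obj.map (j p).op (unitSec i G (U p) s)) =
            ((EtCoh.pull i).obj G).obj.map χ.op (unitSec i G P (G.obj.map qa.op s)) := fun G s => by
        rw [← unitSec_map, ← ConcreteCategory.comp_apply, ← Functor.map_comp, ← op_comp,
          ← ConcreteCategory.comp_apply, ← Functor.map_comp, ← op_comp, hχa]
      have hb : ∀ (G : EtCoh.Ab X) (s : EtCoh.sect G (U p')),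
          ((EtCoh.pull i).obj G).obj.map b.op (((EtCoh.pull i).obj G).obj.map (j p').op (unitSec i G (U p') s)) =
            ((EtCoh.pull i).obj G).obj.map χ.op (unitSec i G P (G.obj.map qb.op s)) := fun G s => by
        rw [← unitSec_map, ← ConcreteCategory.comp_apply, ← Functor.map_comp, ← op_comp,
          ← ConcreteCategory.comp_apply, ← Functor.map_comp, ← op_comp, hχb]
      have hF := (congrArg (((EtCoh.pull i).obj F).obj.map a.op) (hQ p)).symm.trans (Eq.trans
        (?_ : _ = ((EtCoh.pull i).obj F).obj.map b.op (((EtCoh.pull i).obj F).obj.map (j p').op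
          (((EtCoh.pull i).obj F).obj.map ((EtCoh.bc i).map (toTopX (U p'))).op σ)))
        (congrArg (((EtCoh.pull i).obj F).obj.map b.op) (hQ p')))
      · rw [ha, hb] at hF
        rw [ha, hb, basisSec_map, basisSec_map]
        refine (unitSec_res_eq_iff i T _ _ χ).mpr fun w => notMem_basisSec F ?_
        exact (unitSec_res_eq_iff i F _ _ χ).mp hF w
      · rw [← ConcreteCategory.comp_apply, ← ConcreteCategory.comp_apply, ← Functor.map_comp, ← Functor.map_comp,
          ← op_comp, ← op_comp, ← ConcreteCategory.comp_apply, ← ConcreteCategory.comp_apply, ← Functor.map_comp,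
          ← Functor.map_comp, ← op_comp, ← op_comp, Category.assoc, Category.assoc, hab]
  obtain ⟨τ, hτ⟩ := surjTop_torsion_map i hV hext T (isTorsion_free2 F) σT
  -- near `Z` this section is a basis section
  have hnear : ∀ p, pullback.fst (U p).hom i (q p) ∉ EtShriek.sectSupp T (U p)
      (T.obj.map (toTopX (U p)).op τ - basisSec F (U p) (t p)) := fun p h => by
    have h' := (EtPushStalk.mem_sectSupp_unit_iff i T (U p) _ (q p)).mpr h
    obtain ⟨w, hw⟩ : q p ∈ Set.range (O p).ι := (Scheme.Opens.range_ι (O p)).ge (hqt p)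
    refine (EtSect.mem_iff _ _ _).mpr ⟨Q p, j p, ⟨w, hw⟩, ?_⟩ h'
    change ((EtCoh.pull i).obj T).obj.map (j p).op (unitSec i T (U p) _) = 0
    rw [map_sub, map_sub, sub_eq_zero, ← unitSec_map, hτ, ← ConcreteCategory.comp_apply, ← Functor.map_comp,
      ← op_comp]
    exact hσT p
  have hfst : ∀ p, (U p).hom (pullback.fst (U p).hom i (q p)) = pullback.fst (EtCoh.top X).hom i p := fun p => by
    conv_rhs => rw [← hq p]
    exact ((Scheme.Hom.comp_apply _ _ _).symm.trans
      (congrArg (fun m : ((EtCoh.bc i).obj (U p)).left ⟶ X => m (q p))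
        (EtCoh.isPullback_bc_map i (toTopX (U p))).w.symm)).trans (Scheme.Hom.comp_apply _ _ _)
  let L : Set X := {x | ∃ (W : X.Etale) (h : EtCoh.sect F W),
    T.obj.map (toTopX W).op τ = basisSec F W h ∧ x ∈ Set.range W.hom}
  have hLo : IsOpen L := isOpen_iff_forall_mem_open.mpr fun x ⟨W, h, hW, hx⟩ => by
    haveI : Etale W.hom := W.prop
    exact ⟨Set.range W.hom, fun y hy => ⟨W, h, hW, hy⟩, W.hom.isOpenMap.isOpen_range, hx⟩
  have hLi : Set.range i ⊆ L := fun x hx => by
    obtain ⟨p, hp⟩ := exists_top_point i hx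
    obtain ⟨W, g, ⟨w, hw⟩, h0⟩ := (EtSect.mem_iff _ _ _).mp (hnear p)
    refine ⟨W, F.obj.map g.op (t p), ?_, w, ?_⟩
    · rw [map_sub, sub_eq_zero, basisSec_map, ← ConcreteCategory.comp_apply, ← Functor.map_comp, ← op_comp,
        hom_top_eq (g ≫ toTopX (U p)) (toTopX W)] at h0
      exact h0
    · rw [← hp, ← hfst p, ← hw]
      exact (congrArg (fun m : W.left ⟶ X => m w) (Over.w g.hom).symm).trans (Scheme.Hom.comp_apply _ _ _)
  have hL : ∀ x : X, x ∈ L := fun x => (hV ⟨L, hLo⟩ hLi).ge (trivial : x ∈ (⊤ : X.Opens))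
  choose W h hWh hWx using hL
  obtain ⟨hg, hhg⟩ := EtColimH.exists_amalg F W (fun x => toTopX (W x)) (fun x => ⟨x, hWx x⟩) h
    fun x y V a b hab => by
      refine basisSec_injective F V ?_
      rw [← basisSec_map, ← basisSec_map, ← hWh, ← hWh, ← ConcreteCategory.comp_apply, ← Functor.map_comp,
        ← op_comp, ← ConcreteCategory.comp_apply, ← Functor.map_comp, ← op_comp, hab]
  have he : basisSec F (EtCoh.top X) hg = τ := eq_of_notMem T fun x =>
    (EtSect.mem_iff _ _ _).mpr ⟨W x, toTopX (W x), hWx x, by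
      rw [map_sub, basisSec_map, hhg, ← hWh, sub_self]⟩
  refine ⟨hg, eq_of_notMem _ fun p => ?_⟩
  rw [← hq p, ← notMem_map_iff, map_sub, unitSec_map]
  refine notMem_sub_trans _ ?_ (notMem_neg _ (hqt p))
  rw [← map_sub]
  intro hc
  refine notMem_of_basisSec F (U := U p) ?_ ((EtPushStalk.mem_sectSupp_unit_iff i F (U p) _ (q p)).mp hc)
  rw [← basisSec_map, he]
  exact hnear p

theorem topBij_map (hV : ∀ V : X.Opens, Set.range i ⊆ V → V = ⊤) (hext : ExtMap i) (A : EtCoh.Ab X) :
    TopBij i ((undSh X).obj A) :=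
  (topBij_undSh_iff A).2 ⟨unitSec_top_injective i A hV, surjTop_all_map i hV hext A⟩

/-- pullback of sections of a sheaf of sets, from abelian sheaves -/
theorem topBij_sets (hV : ∀ V : X.Opens, Set.range i ⊆ V → V = ⊤)
    (hab : ∀ A : EtCoh.Ab X, TopBij i ((undSh X).obj A)) (G : EtDesc.Sh X) : TopBij i G := by
  let T₀ := EtCoh.top X
  have hδ : (topδ i).left ≫ pullback.fst T₀.hom i = i := mkδ_fst _ _ _
  constructor
  · intro a b hab
    refine eq_of_eqLoc fun x => ?_
    have h := hV ⟨eqLoc G T₀ a b, isOpen_eqLoc a b⟩ (by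
      rintro _ ⟨z, rfl⟩
      have hz := (mem_eqLoc_ru i G (topδ i) a b z).mp (by rw [hab, eqLoc_self]; trivial)
      rw [hδ] at hz
      exact hz)
    exact (SetLike.ext_iff.mp h x).mpr trivial
  · intro t
    let A := freeAb G
    let η := genMap G
    let G' := (undSh X).obj A
    let pη := ((EtDesc.pullSh i).map η).hom
    have hnat : ∀ {T : Z.Etale} {U : X.Etale} (δ : T ⟶ (EtCoh.bc i).obj U) (s : EtDesc.sect G U),
        pη.app (op T) (ru i G δ s) = ru i G' δ (η.hom.app (op U) s) := fun {T U} δ s => by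
      have h1 := ConcreteCategory.congr_hom
        (congrArg (fun k : G ⟶ (EtDesc.pushSh i).obj ((EtDesc.pullSh i).obj G') => k.hom.app (op U))
          ((EtDesc.adjSh i).unit.naturality η)) s
      refine Eq.trans (NatTrans.naturality_apply pη δ.op _) ?_
      exact congrArg (((EtDesc.pullSh i).obj G').obj.map δ.op) h1.symm
    obtain ⟨σ, hσ⟩ := (hab A).2 (pη.app (op (EtCoh.top _)) t)
    have hloc : ∀ z : ↥Z, ∃ (W : X.Etale) (s : EtDesc.sect G W) (T' : Z.Etale)
        (e : T' ⟶ EtCoh.top _) (δ : T' ⟶ (EtCoh.bc i).obj W) (w : T'.left),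
        G'.obj.map (tT W).op σ = η.hom.app (op W) s ∧ e.left w = z ∧
          ((EtDesc.pullSh i).obj G).obj.map e.op t = ru i G δ s := fun z => by
      obtain ⟨T', e, U, δ, s, ⟨w, hw⟩, he⟩ := exists_ru_near i G t z
      have h1 : ru i G' δ (G'.obj.map (tT U).op σ) = ru i G' δ (η.hom.app (op U) s) := by
        rw [ru_res, ← hnat, ← he, show δ ≫ (EtCoh.bc i).map (tT U) = e ≫ topδ i from
          (EtCore.bcTopIsTerminal i).hom_ext _ _, ← map_ru]
        refine (congrArg (((EtDesc.pullSh i).obj G').obj.map e.op) hσ).trans ?_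
        exact (NatTrans.naturality_apply pη e.op t).symm
      have h2 : (δ.left ≫ pullback.fst U.hom i) w ∈ eqLoc G' U (G'.obj.map (tT U).op σ) (η.hom.app (op U) s) :=
        (mem_eqLoc_ru i G' δ _ _ w).mp (by rw [h1, eqLoc_self]; trivial)
      obtain ⟨W, g, ⟨y, hy⟩, hg⟩ := h2
      -- restrict to the part of `T'` over `W`
      obtain ⟨Q, a, b, hab, hQ⟩ := exists_fibreProd δ ((EtCoh.bc i).map g)
      obtain ⟨y', hy', hy''⟩ := Scheme.Pullback.exists_preimage_pullback (f := g.left) (g := pullback.fst U.hom i) y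
        (δ.left w) (hy.trans (Scheme.Hom.comp_apply _ _ _))
      let iso := (EtCoh.isPullback_bc_map i g).flip.isoPullback
      obtain ⟨q, hq, -⟩ := hQ w (iso.inv y') (by
        rw [← Scheme.Hom.comp_apply, (EtCoh.isPullback_bc_map i g).flip.isoPullback_inv_snd]
        exact hy''.symm)
      refine ⟨W, G.obj.map g.op s, Q, a ≫ e, b, q, ?_, ?_, ?_⟩
      · rw [← tT_eq (g ≫ tT U), ← map_map, hg]
        exact (NatTrans.naturality_apply η.hom g.op s).symm
      · change e.left (a.left q) = z
        rw [hq, hw]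
      · rw [ru_res, ← map_map, he, map_ru, hab]
    have hM : ∀ x : X, ∃ (W : X.Etale) (s : EtDesc.sect G W), x ∈ Set.range W.hom ∧
        G'.obj.map (tT W).op σ = η.hom.app (op W) s := by
      let M : Set X := {x | ∃ (W : X.Etale) (s : EtDesc.sect G W), x ∈ Set.range W.hom ∧
        G'.obj.map (tT W).op σ = η.hom.app (op W) s}
      have hMo : IsOpen M := by
        refine isOpen_iff_forall_mem_open.mpr fun x hxM => ?_
        obtain ⟨W, s, hx, h⟩ := hxM
        haveI := W.prop
        exact ⟨Set.range W.hom, fun y hy => ⟨W, s, hy, h⟩, W.hom.isOpenMap.isOpen_range, hx⟩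
      have h := hV ⟨M, hMo⟩ (by
        rintro _ ⟨z, rfl⟩
        obtain ⟨W, s, T', e, δ, w, h1, h2, -⟩ := hloc z
        refine ⟨W, s, ⟨pullback.fst W.hom i (δ.left w), ?_⟩, h1⟩
        rw [← Scheme.Hom.comp_apply, pullback.condition, Scheme.Hom.comp_apply]
        refine congrArg i ?_
        refine (Scheme.Hom.comp_apply _ _ _).symm.trans ?_
        refine (congrArg (fun m : T'.left ⟶ _ => m w) ((MorphismProperty.Over.w δ).trans
          ((MorphismProperty.Over.w e).symm.trans (Category.comp_id _)))).trans h2)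
      exact fun x => (SetLike.ext_iff.mp h x).mpr trivial
    choose W s hW hs using hM
    obtain ⟨σ', hσ'⟩ := exists_amalg (G := G) W (fun x => tT (W x)) (fun x => ⟨x, hW x⟩) s (by
      intro x x' T a b e
      apply genMap_injective G T
      rw [NatTrans.naturality_apply η.hom a.op, NatTrans.naturality_apply η.hom b.op, ← hs, ← hs]
      exact (map_map G' _ a σ).trans ((congrArg (fun m => G'.obj.map (Quiver.Hom.op m) σ) e).trans (map_map G' _ b σ).symm))
    have hσσ : η.hom.app (op T₀) σ' = σ := eq_of_eqLoc fun x => by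
      refine ⟨W x, tT (W x), hW x, ?_⟩
      rw [hs]
      exact (NatTrans.naturality_apply η.hom (tT (W x)).op σ').symm.trans (congrArg (η.hom.app (op (W x))) (hσ' x))
    refine ⟨σ', eq_of_eqLoc fun z => ?_⟩
    obtain ⟨W₁, s₁, T', e, δ, w, h1, h2, h3⟩ := hloc z
    refine ⟨T', e, ⟨w, h2⟩, ?_⟩
    have hs₁ : G.obj.map (tT W₁).op σ' = s₁ := genMap_injective G W₁ (by
      rw [← h1]
      exact (NatTrans.naturality_apply η.hom (tT W₁).op σ').trans (congrArg (G'.obj.map (tT W₁).op) hσσ))
    rw [h3, map_ru, show e ≫ topδ i = δ ≫ (EtCoh.bc i).map (tT W₁) from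
      (EtCore.bcTopIsTerminal i).hom_ext _ _, ← ru_res, hs₁]

end Groth.Agent.GabRigH0
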