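import Groth.Agent.EtBCQ.StrictSys
import Groth.Agent.Hensel.BranchSum
import Mathlib

/-!
# Strict henselizations of rings with the same quotients modulo powers of an ideal
-/

set_option autoImplicit false
set_option linter.style.haveILetI false

universe u

open IsLocalRing

noncomputable section

namespace Groth.Agent.GabRigH0

theorem map_maximalIdeal_le {P Q : Type u} [CommRing P] [CommRing Q] [IsLocalRing P] [IsLocalRing Q] (f : P →+* Q)
    [IsLocalHom f] : (maximalIdeal P).map f ≤ maximalIdeal Q :=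
  Ideal.map_le_iff_le_comap.2 fun _ hx hu => hx (isUnit_of_map_unit f _ hu)

theorem bijective_of_strict {A A' S T : Type u} [CommRing A] [IsLocalRing A] [CommRing A'] [IsLocalRing A']
    [CommRing S] [IsLocalRing S] [Algebra A S] [IsLocalHom (algebraMap A S)]
    [hS : _root_.Hensel.IsStrictHenselization A S]
    [CommRing T] [IsLocalRing T] [Algebra A' T] [IsLocalHom (algebraMap A' T)]
    [hT : _root_.Hensel.IsStrictHenselization A' T] (β : A →+* A') [IsLocalHom β] (hβ : Function.Bijective β)
    (g : S →+* T) [IsLocalHom g] (hg : g.comp (algebraMap A S) = (algebraMap A' T).comp β) : Function.Bijective g := by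
  haveI : HenselianLocalRing S := hS.henselian
  haveI : HenselianLocalRing T := hT.henselian
  haveI := hS.isSepClosure.sep_closed
  haveI : Algebra.IsSeparable (ResidueField A') (ResidueField T) := hT.isSepClosure.separable
  have hk : Function.Bijective (ResidueField.map g) := by
    refine ⟨RingHom.injective _, fun x => ?_⟩
    obtain ⟨y, hy⟩ := EtBCQ.mem_range_of_separable (k := ResidueField A) (K := ResidueField T)
      (L := ResidueField S) (Ω := ResidueField T)
      ((algebraMap (ResidueField A') (ResidueField T)).comp (ResidueField.map β))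
      (algebraMap (ResidueField A) (ResidueField S)) (RingHom.id _) (ResidueField.map g)
      (RingHom.ext fun a => by
        obtain ⟨a, rfl⟩ := residue_surjective a
        simp only [RingHom.comp_apply, RingHom.id_apply, ResidueField.algebraMap_residue, ResidueField.map_residue]
        exact congrArg (residue T) (RingHom.congr_fun hg a).symm)
      (fun z => by
        have hsep : IsSeparable (ResidueField A') z := Algebra.IsSeparable.isSeparable _ _
        obtain ⟨p, hp⟩ := Polynomial.map_surjective (ResidueField.map β) (fun w => by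
          obtain ⟨w, rfl⟩ := residue_surjective w
          obtain ⟨a, rfl⟩ := hβ.2 w
          exact ⟨residue A a, ResidueField.map_residue _ a⟩) (minpoly (ResidueField A') z)
        refine ⟨p, ?_, ?_⟩
        · rw [← Polynomial.separable_map (ResidueField.map β), hp]
          exact hsep
        · rw [← Polynomial.eval₂_map, hp]
          exact minpoly.aeval _ _) x
    exact ⟨y, hy⟩
  let e := RingEquiv.ofBijective _ hk
  let b := RingEquiv.ofBijective _ hβ
  have hb : ∀ a, b.symm (β a) = a := b.symm_apply_apply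
  haveI : IsLocalHom b.symm.toRingHom := ⟨fun a ha => by
    have h : IsUnit (b (b.symm a)) := ha.map b
    rwa [b.apply_symm_apply] at h⟩
  haveI : IsLocalHom ((algebraMap A S).comp b.symm.toRingHom) := RingHom.isLocalHom_comp _ _
  have hgr : ∀ s, ResidueField.map g (residue S s) = residue T (g s) := ResidueField.map_residue g
  obtain ⟨h, ⟨hh, hhr⟩, -⟩ := hT.universal S ((algebraMap A S).comp b.symm.toRingHom) e.symm.toRingHom
    (RingHom.ext fun a => by
      obtain ⟨a', rfl⟩ := residue_surjective a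
      obtain ⟨a, rfl⟩ := hβ.2 a'
      simp only [RingHom.comp_apply, ResidueField.map_residue]
      refine (RingEquiv.symm_apply_eq e).2 ?_
      rw [show ∀ z, e z = ResidueField.map g z from fun _ => rfl, hgr]
      refine congrArg (residue T) ((RingHom.congr_fun hg a).symm.trans ?_)
      exact congrArg (fun c => g (algebraMap A S c)) (hb a).symm)
  have hhloc : ∀ s, residue S (h (g s)) = residue S s := fun s => by
    rw [hhr]
    exact (RingEquiv.symm_apply_eq e).2 (hgr s).symm
  have h1 : h.comp g = RingHom.id S := by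
    obtain ⟨w, -, huniq⟩ := hS.universal S (algebraMap A S) (RingHom.id _) (RingHom.ext fun a => by
      obtain ⟨a, rfl⟩ := residue_surjective a
      rfl)
    refine (huniq _ ⟨?_, hhloc⟩).trans (huniq _ ⟨RingHom.id_comp _, fun _ => rfl⟩).symm
    refine RingHom.ext fun a => ?_
    rw [RingHom.comp_assoc, hg]
    exact (RingHom.congr_fun hh (β a)).trans (congrArg (algebraMap A S) (hb a))
  have h2 : g.comp h = RingHom.id T := by
    obtain ⟨w, -, huniq⟩ := hT.universal T (algebraMap A' T) (RingHom.id _) (RingHom.ext fun a => by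
      obtain ⟨a, rfl⟩ := residue_surjective a
      rfl)
    refine (huniq _ ⟨?_, fun t => ?_⟩).trans (huniq _ ⟨RingHom.id_comp _, fun _ => rfl⟩).symm
    · refine RingHom.ext fun a' => ?_
      obtain ⟨a, rfl⟩ := hβ.2 a'
      rw [RingHom.comp_assoc, hh]
      exact (congrArg (fun c => g (algebraMap A S c)) (hb a)).trans (RingHom.congr_fun hg a)
    · rw [RingHom.comp_apply, ← hgr, hhr]
      exact e.apply_symm_apply _
  exact ⟨Function.LeftInverse.injective (g := h) (RingHom.congr_fun h1),
    Function.RightInverse.surjective (g := h) (RingHom.congr_fun h2)⟩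

variable {A A' : Type u} [CommRing A] [CommRing A'] [Algebra A A'] {I : Ideal A}
  (hlow : ∀ M, ((I ^ M).map (algebraMap A A')).comap (algebraMap A A') ≤ I ^ M)
  (hsurj : ∀ (M : ℕ) (b : A'), ∃ a, b - algebraMap A A' a ∈ (I ^ M).map (algebraMap A A'))
  (q : Ideal A') [q.IsPrime] (hIq : I.map (algebraMap A A') ≤ q)
  {Ap Aq : Type u} [CommRing Ap] [CommRing Aq] [Algebra A Ap] [Algebra A' Aq]
  [IsLocalization.AtPrime Ap (q.comap (algebraMap A A'))] [IsLocalization.AtPrime Aq q]
  (σ : Ap →+* Aq) (hσ : σ.comp (algebraMap A Ap) = (algebraMap A' Aq).comp (algebraMap A A'))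

include hlow hsurj hIq hσ in
theorem bijective_quotientMap_atPrime (n : ℕ) (hn : n ≠ 0)
    (hle : (I ^ n).map (algebraMap A Ap) ≤ Ideal.comap σ ((I ^ n).map ((algebraMap A' Aq).comp (algebraMap A A')))) :
    Function.Bijective (Ideal.quotientMap _ σ hle) := by
  have hIn : (I ^ n).map (algebraMap A A') ≤ q :=
    (Ideal.map_mono (Ideal.pow_le_self hn)).trans hIq
  have hσ' : ∀ a, σ (algebraMap A Ap a) = algebraMap A' Aq (algebraMap A A' a) := RingHom.congr_fun hσ
  constructor
  · rw [injective_iff_map_eq_zero]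
    intro x hx
    obtain ⟨y, rfl⟩ := Ideal.Quotient.mk_surjective x
    obtain ⟨a, s, rfl⟩ := IsLocalization.exists_mk'_eq (q.comap (algebraMap A A')).primeCompl y
    rw [Ideal.quotientMap_mk, Ideal.Quotient.eq_zero_iff_mem, ← Ideal.map_map] at hx
    have h1 : algebraMap A' Aq (algebraMap A A' a) ∈ ((I ^ n).map (algebraMap A A')).map (algebraMap A' Aq) := by
      rw [← hσ', ← IsLocalization.mk'_spec Ap a s, map_mul]
      exact Ideal.mul_mem_right _ _ hx
    rw [IsLocalization.algebraMap_mem_map_algebraMap_iff q.primeCompl] at h1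
    obtain ⟨t, ht, hta⟩ := h1
    obtain ⟨t₀, ht₀⟩ := hsurj n t
    have ht₀q : t₀ ∈ (q.comap (algebraMap A A')).primeCompl := fun h => ht (by
      have := add_mem (hIn ht₀) (Ideal.mem_comap.1 h)
      simpa using this)
    have h2 : t₀ * a ∈ I ^ n := hlow n (Ideal.mem_comap.2 (by
      have := sub_mem hta (Ideal.mul_mem_right (algebraMap A A' a) _ ht₀)
      rw [map_mul]
      convert this using 1
      ring))
    refine Ideal.Quotient.eq_zero_iff_mem.2 ?_
    rw [IsLocalization.mk'_mem_map_algebraMap_iff]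
    exact ⟨t₀, ht₀q, h2⟩
  · intro x
    obtain ⟨y, rfl⟩ := Ideal.Quotient.mk_surjective x
    obtain ⟨b, t, rfl⟩ := IsLocalization.exists_mk'_eq q.primeCompl y
    obtain ⟨b₀, hb₀⟩ := hsurj n b
    obtain ⟨t₀, ht₀⟩ := hsurj n t.1
    have ht₀q : t₀ ∈ (q.comap (algebraMap A A')).primeCompl := fun h => t.2 (by
      have := add_mem (hIn ht₀) (Ideal.mem_comap.1 h)
      simpa using this)
    refine ⟨Ideal.Quotient.mk _ (IsLocalization.mk' Ap b₀ ⟨t₀, ht₀q⟩), ?_⟩
    rw [Ideal.quotientMap_mk, Ideal.Quotient.eq]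
    have hu : IsUnit (algebraMap A' Aq t.1 * σ (algebraMap A Ap t₀)) :=
      (IsLocalization.map_units Aq t).mul ((IsLocalization.map_units Ap ⟨t₀, ht₀q⟩).map σ)
    rw [← Ideal.unit_mul_mem_iff_mem _ hu]
    have h3 : b₀ • (t.1 - algebraMap A A' t₀) - t₀ • (b - algebraMap A A' b₀) ∈ (I ^ n).map (algebraMap A A') := by
      rw [Algebra.smul_def, Algebra.smul_def]
      exact sub_mem (Ideal.mul_mem_left _ _ ht₀) (Ideal.mul_mem_left _ _ hb₀)
    have h4 := Ideal.mem_map_of_mem (algebraMap A' Aq) h3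
    rw [Ideal.map_map] at h4
    convert h4 using 1
    have e1 : σ (algebraMap A Ap t₀) * σ (IsLocalization.mk' Ap b₀ ⟨t₀, ht₀q⟩) = σ (algebraMap A Ap b₀) := by
      rw [← map_mul]
      exact congrArg σ (IsLocalization.mk'_spec' Ap b₀ ⟨t₀, ht₀q⟩)
    rw [mul_sub, mul_assoc, e1, mul_right_comm, IsLocalization.mk'_spec', hσ', hσ', Algebra.smul_def,
      Algebra.smul_def]
    simp only [map_sub, map_mul]
    ring

variable [IsLocalRing Ap] [IsLocalRing Aq] [IsLocalHom σ] {S T : Type u} [CommRing S] [IsLocalRing S]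
  [CommRing T] [IsLocalRing T] [Algebra Ap S] [IsLocalHom (algebraMap Ap S)] [Algebra Aq T]
  [IsLocalHom (algebraMap Aq T)] [_root_.Hensel.IsStrictHenselization Ap S]
  [_root_.Hensel.IsStrictHenselization Aq T] (g : S →+* T) [IsLocalHom g]
  (hg : g.comp (algebraMap Ap S) = (algebraMap Aq T).comp σ)

include hlow hsurj hIq hσ hg in
theorem bijective_quotientMap_strict (n : ℕ) (hn : n ≠ 0)
    (hle : (I ^ n).map ((algebraMap Ap S).comp (algebraMap A Ap)) ≤
      Ideal.comap g ((I ^ n).map ((algebraMap Aq T).comp ((algebraMap A' Aq).comp (algebraMap A A'))))) :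
    Function.Bijective (Ideal.quotientMap _ g hle) := by
  let J := (I ^ n).map (algebraMap A Ap)
  let J' := (I ^ n).map ((algebraMap A' Aq).comp (algebraMap A A'))
  let K := J.map (algebraMap Ap S)
  let K' := J'.map (algebraMap Aq T)
  have hJ' : J' ≤ maximalIdeal Aq := by
    change (I ^ n).map ((algebraMap A' Aq).comp (algebraMap A A')) ≤ _
    rw [← Ideal.map_map, ← IsLocalization.AtPrime.map_eq_maximalIdeal q Aq]
    exact Ideal.map_mono ((Ideal.map_mono (Ideal.pow_le_self hn)).trans hIq)
  have hJ : J ≤ maximalIdeal Ap := by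
    rw [Ideal.map_le_iff_le_comap]
    intro a ha hu
    have h : algebraMap A' Aq (algebraMap A A' a) ∈ maximalIdeal Aq := hJ' (Ideal.mem_map_of_mem _ ha)
    rw [← RingHom.comp_apply, ← hσ] at h
    exact h (hu.map σ)
  have hK : K ≠ ⊤ := ne_top_of_le_ne_top (maximalIdeal.isMaximal S).ne_top
    ((Ideal.map_mono hJ).trans (map_maximalIdeal_le (algebraMap Ap S)))
  have hK' : K' ≠ ⊤ := ne_top_of_le_ne_top (maximalIdeal.isMaximal T).ne_top
    ((Ideal.map_mono hJ').trans (map_maximalIdeal_le (algebraMap Aq T)))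
  haveI : Nontrivial (S ⧸ K) := Ideal.Quotient.nontrivial_iff.2 hK
  haveI : Nontrivial (T ⧸ K') := Ideal.Quotient.nontrivial_iff.2 hK'
  haveI : Nontrivial (Ap ⧸ J) := Ideal.Quotient.nontrivial_iff.2 (ne_top_of_le_ne_top (maximalIdeal.isMaximal Ap).ne_top hJ)
  haveI : Nontrivial (Aq ⧸ J') := Ideal.Quotient.nontrivial_iff.2 (ne_top_of_le_ne_top (maximalIdeal.isMaximal Aq).ne_top hJ')
  haveI : IsLocalRing (S ⧸ K) := IsLocalRing.of_surjective' _ Ideal.Quotient.mk_surjective
  haveI : IsLocalRing (T ⧸ K') := IsLocalRing.of_surjective' _ Ideal.Quotient.mk_surjective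
  haveI : IsLocalRing (Ap ⧸ J) := IsLocalRing.of_surjective' _ Ideal.Quotient.mk_surjective
  haveI : IsLocalRing (Aq ⧸ J') := IsLocalRing.of_surjective' _ Ideal.Quotient.mk_surjective
  have hloc : ∀ {P Q : Type u} [CommRing P] [CommRing Q] [IsLocalRing P] [IsLocalRing Q] (f : P →+* Q) [IsLocalHom f]
      (a : Ideal P) (b : Ideal Q) (hb : b ≤ maximalIdeal Q) (h : a ≤ b.comap f) [IsLocalRing (Q ⧸ b)],
      IsLocalHom (Ideal.quotientMap b f h) := fun {P Q} _ _ _ _ f _ a b hb h _ => ⟨fun x hx => by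
    obtain ⟨y, rfl⟩ := Ideal.Quotient.mk_surjective x
    rw [Ideal.quotientMap_mk] at hx
    haveI : IsLocalHom (Ideal.Quotient.mk b) := IsLocalHom.of_surjective _ Ideal.Quotient.mk_surjective
    exact (isUnit_of_map_unit f y (isUnit_of_map_unit _ _ hx)).map _⟩
  have hKm : K ≤ maximalIdeal S := le_maximalIdeal hK
  have hK'm : K' ≤ maximalIdeal T := le_maximalIdeal hK'
  haveI : IsLocalHom (algebraMap (Ap ⧸ J) (S ⧸ K)) := hloc (algebraMap Ap S) J K hKm Ideal.le_comap_map
  haveI : IsLocalHom (algebraMap (Aq ⧸ J') (T ⧸ K')) := hloc (algebraMap Aq T) J' K' hK'm Ideal.le_comap_map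
  haveI := Hensel.isStrictHenselization_quotient (A := Ap) (S := S) J
  haveI := Hensel.isStrictHenselization_quotient (A := Aq) (S := T) J'
  have hJle : J ≤ J'.comap σ := by
    rw [Ideal.map_le_iff_le_comap, Ideal.comap_comap, hσ]
    exact Ideal.le_comap_map
  have hKle : K ≤ K'.comap g := by
    rw [Ideal.map_le_iff_le_comap, Ideal.comap_comap, hg, ← Ideal.comap_comap]
    exact hJle.trans (Ideal.comap_mono Ideal.le_comap_map)
  haveI := hloc σ J J' hJ' hJle
  haveI := hloc g K K' hK'm hKle
  have hb := bijective_of_strict (A := Ap ⧸ J) (A' := Aq ⧸ J') (S := S ⧸ K) (T := T ⧸ K') (Ideal.quotientMap J' σ hJle)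
    (bijective_quotientMap_atPrime hlow hsurj q hIq σ hσ n hn hJle) (Ideal.quotientMap K' g hKle)
    (RingHom.ext fun x => by
      obtain ⟨y, rfl⟩ := Ideal.Quotient.mk_surjective x
      exact congrArg (Ideal.Quotient.mk K') (RingHom.congr_fun hg y))
  have e : (I ^ n).map ((algebraMap Ap S).comp (algebraMap A Ap)) = K := (Ideal.map_map _ _).symm
  have e' : (I ^ n).map ((algebraMap Aq T).comp ((algebraMap A' Aq).comp (algebraMap A A'))) = K' := (Ideal.map_map _ _).symm
  constructor
  · rw [injective_iff_map_eq_zero]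
    intro x hx
    obtain ⟨y, rfl⟩ := Ideal.Quotient.mk_surjective x
    rw [Ideal.quotientMap_mk, Ideal.Quotient.eq_zero_iff_mem, e'] at hx
    rw [Ideal.Quotient.eq_zero_iff_mem, e, ← Ideal.Quotient.eq_zero_iff_mem]
    refine (injective_iff_map_eq_zero _).1 hb.1 _ ?_
    rw [Ideal.quotientMap_mk, Ideal.Quotient.eq_zero_iff_mem]
    exact hx
  · intro x
    obtain ⟨y, rfl⟩ := Ideal.Quotient.mk_surjective x
    obtain ⟨z, hz⟩ := hb.2 (Ideal.Quotient.mk K' y)
    obtain ⟨w, rfl⟩ := Ideal.Quotient.mk_surjective z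
    refine ⟨Ideal.Quotient.mk _ w, ?_⟩
    rw [Ideal.quotientMap_mk, Ideal.Quotient.eq] at hz ⊢
    rwa [e']

include hlow hsurj hIq hσ hg in
/-- low and surjectivity conditions for the strict henselizations -/
theorem strict_levels :
    let J := I.map ((algebraMap Ap S).comp (algebraMap A Ap))
    (∀ M, ((J ^ M).map g).comap g ≤ J ^ M) ∧ ∀ (M : ℕ) (b : T), ∃ a, b - g a ∈ (J ^ M).map g := by
  intro J
  have hc : g.comp ((algebraMap Ap S).comp (algebraMap A Ap)) =
      (algebraMap Aq T).comp ((algebraMap A' Aq).comp (algebraMap A A')) := by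
    rw [← RingHom.comp_assoc, hg, RingHom.comp_assoc, hσ]
  have hp : ∀ M, J ^ M = (I ^ M).map ((algebraMap Ap S).comp (algebraMap A Ap)) := fun M => (Ideal.map_pow _ _ _).symm
  have hpg : ∀ M, (J ^ M).map g = (I ^ M).map ((algebraMap Aq T).comp ((algebraMap A' Aq).comp (algebraMap A A'))) :=
    fun M => by rw [hp, Ideal.map_map, hc]
  refine ⟨fun M => ?_, fun M b => ?_⟩
  · rcases eq_or_ne M 0 with rfl | hM
    · simp
    · intro x hx
      rw [Ideal.mem_comap, hpg] at hx
      rw [hp]
      have hle := Ideal.map_le_iff_le_comap.1 (show ((I ^ M).map _).map g ≤ _ from (hp M ▸ hpg M).le)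
      refine Ideal.Quotient.eq_zero_iff_mem.1 ((injective_iff_map_eq_zero _).1
        (bijective_quotientMap_strict hlow hsurj q hIq σ hσ g hg M hM hle).1 _ ?_)
      rw [Ideal.quotientMap_mk, Ideal.Quotient.eq_zero_iff_mem]
      exact hx
  · rcases eq_or_ne M 0 with rfl | hM
    · exact ⟨0, by rw [pow_zero, Ideal.one_eq_top, Ideal.map_top]; trivial⟩
    · have hle := Ideal.map_le_iff_le_comap.1 (show ((I ^ M).map _).map g ≤ _ from (hp M ▸ hpg M).le)
      obtain ⟨z, hz⟩ := (bijective_quotientMap_strict hlow hsurj q hIq σ hσ g hg M hM hle).2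
        (Ideal.Quotient.mk _ b)
      obtain ⟨a, rfl⟩ := Ideal.Quotient.mk_surjective z
      refine ⟨a, ?_⟩
      rw [Ideal.quotientMap_mk, Ideal.Quotient.eq] at hz
      rw [hpg, ← neg_sub]
      exact neg_mem hz

end Groth.Agent.GabRigH0
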