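import Groth.Agent.GabRigH0.General
import Groth.Agent.GabRigH0.Strict
import Groth.Agent.EtH0Pair.ProperSets
import Mathlib

/-!
# Direct images from the punctured spectrum commute with completion
-/

set_option autoImplicit false
set_option backward.isDefEq.respectTransparency false
set_option backward.isDefEq.respectTransparency.types false
set_option maxHeartbeats 1000000
set_option linter.style.haveILetI false

universe u

open CategoryTheory CategoryTheory.Limits AlgebraicGeometry Opposite IsLocalRing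

noncomputable section

namespace Groth.Agent.GabRigH0

open Groth.Agent.EtShLib Groth.Agent.EtH0Pair Groth.Agent.EtStrictLoc

variable {A A' : Type u} [CommRing A] [CommRing A'] [Algebra A A'] {I : Ideal A}
  (hI : I.FG) (hlow : ∀ M, ((I ^ M).map (algebraMap A A')).comap (algebraMap A A') ≤ I ^ M)
  (hsurj : ∀ (M : ℕ) (b : A'), ∃ a, b - algebraMap A A' a ∈ (I ^ M).map (algebraMap A A'))
  (U : (Spec (CommRingCat.of A)).Opens) (hU : IsCompact (U : Set (Spec (CommRingCat.of A))))
  (hUI : ∀ x : Spec (CommRingCat.of A), x ∉ U → I ≤ x.asIdeal)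

local notation3 "π" => Spec.map (CommRingCat.ofHom (algebraMap A A'))

include hI hlow hsurj hU hUI in
theorem topBij_strict (y' : Spec (CommRingCat.of A')) (QY : EtBCQ.SH (Spec (CommRingCat.of A)) (π y'))
    (Q' : EtBCQ.SH (Spec (CommRingCat.of A')) y') (φ : QY.R →+* Q'.R) [IsLocalHom φ]
    (hφ : Spec.map (CommRingCat.ofHom φ) ≫ QY.spec = Q'.spec ≫ π)
    (G : EtDesc.Sh (xR U.ι (π y') QY.R)) :
    TopBij (xMap U.ι π (π ⁻¹ᵁ U).ι (π ∣_ U) (morphismRestrict_ι π U) QY Q' φ hφ) G := by
  have hw : IsPullback (π ∣_ U) (π ⁻¹ᵁ U).ι U.ι π := isPullback_morphismRestrict π U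
  have hX := isPullback_xMap U.ι π (π ⁻¹ᵁ U).ι (π ∣_ U) QY Q' φ hφ hw
  by_cases hp : I ≤ (π y').asIdeal
  · letI : Algebra A ((Spec (CommRingCat.of A)).presheaf.stalk (π y')) :=
      (StructureSheaf.toStalk A (π y')).hom.toAlgebra
    letI : Algebra A' ((Spec (CommRingCat.of A')).presheaf.stalk y') :=
      (StructureSheaf.toStalk A' y').hom.toAlgebra
    haveI : IsLocalization.AtPrime ((Spec (CommRingCat.of A)).presheaf.stalk (π y'))
        (y'.asIdeal.comap (algebraMap A A')) := StructureSheaf.IsLocalization.to_stalk A (π y')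
    haveI : IsLocalization.AtPrime ((Spec (CommRingCat.of A')).presheaf.stalk y') y'.asIdeal :=
      StructureSheaf.IsLocalization.to_stalk A' y'
    let σ := (Scheme.Hom.stalkMap π y').hom
    have hσ : σ.comp (algebraMap A _) = (algebraMap A' _).comp (algebraMap A A') := by
      have h := Scheme.SpecMap_stalkMap_fromSpecStalk π (x := y')
      rw [Spec.fromSpecStalk_eq', Spec.fromSpecStalk_eq', ← Spec.map_comp, ← Spec.map_comp] at h
      exact congrArg CommRingCat.Hom.hom (Spec.map_injective h)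
    have hg : φ.comp (algebraMap ((Spec (CommRingCat.of A)).presheaf.stalk (π y')) QY.R) =
        (algebraMap ((Spec (CommRingCat.of A')).presheaf.stalk y') Q'.R).comp σ := by
      refine EtBCQ.eq_of_spec _ _ ?_
      rw [← EtBCQ.spec_comp_spec, hφ, EtBCQ.SH.spec, Hens2.specOf, Category.assoc,
        ← Scheme.SpecMap_stalkMap_fromSpecStalk π (x := y'), ← Category.assoc, ← Spec.map_comp]
      rfl
    let s : A →+* QY.R :=
      (algebraMap ((Spec (CommRingCat.of A)).presheaf.stalk (π y')) QY.R).comp (algebraMap A _)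
    have hspec : QY.spec = Spec.map (CommRingCat.ofHom s) := by
      rw [EtBCQ.SH.spec, Hens2.specOf, Spec.fromSpecStalk_eq', ← Spec.map_comp]
      rfl
    let J := I.map s
    obtain ⟨hlo, hsu⟩ := strict_levels hlow hsurj y'.asIdeal (Ideal.map_le_iff_le_comap.2 hp) σ hσ φ hg
    have hJm : J ≤ maximalIdeal QY.R := by
      rw [Ideal.map_le_iff_le_comap]
      intro a ha
      refine map_maximalIdeal_le (algebraMap _ QY.R) (Ideal.mem_map_of_mem _ ?_)
      rw [← IsLocalization.AtPrime.map_eq_maximalIdeal (y'.asIdeal.comap (algebraMap A A'))]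
      exact Ideal.mem_map_of_mem _ (hp ha)
    haveI : HenselianRing QY.R J := Hensel.henselianRing_mono hJm
    letI := φ.toAlgebra
    haveI : CompactSpace ↥(U : Scheme.{u}) := isCompact_iff_compactSpace.mp hU
    haveI : QuasiCompact U.ι := (quasiCompact_iff_compactSpace U.ι).2 inferInstance
    haveI : QuasiCompact (pullback.snd U.ι QY.spec) := MorphismProperty.pullback_snd _ _ inferInstance
    haveI : CompactSpace ↥(pullback U.ι QY.spec) :=
      QuasiCompact.compactSpace_of_compactSpace (pullback.snd U.ι QY.spec)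
    refine topBij_rigid (A := QY.R) (A' := Q'.R) (I := J) (hI.map s) hlo hsu ?_ (pullback.snd U.ι QY.spec) ?_ _
      (pullback.snd (π ⁻¹ᵁ U).ι Q'.spec) hX G
    · exact ((Ideal.map_mono hJm).trans (map_maximalIdeal_le φ)).trans (maximalIdeal_le_jacobson ⊥)
    · intro x hx
      refine Ideal.map_le_iff_le_comap.2 (hUI (PrimeSpectrum.comap s x) fun hxU => hx ?_)
      have h' : QY.spec x ∈ Set.range U.ι := by
        rw [Scheme.Opens.range_ι, hspec]
        exact hxU
      obtain ⟨w, hw'⟩ := h'
      obtain ⟨z, -, hz⟩ := Scheme.Pullback.exists_preimage_pullback (f := U.ι) (g := QY.spec) w x hw'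
      exact ⟨z, hz⟩
  · have hpU : π y' ∈ U := by
      by_contra h
      exact hp (hUI _ h)
    haveI : Surjective (pullback.snd U.ι QY.spec) := ⟨fun x => by
      have h' : QY.spec x ∈ Set.range U.ι := by
        rw [Scheme.Opens.range_ι]
        refine ((IsLocalRing.specializes_closedPoint x).map QY.spec.continuous).mem_open U.2 ?_
        rw [EtBCQ.SH.spec_closed]
        exact hpU
      obtain ⟨w, hw'⟩ := h'
      obtain ⟨z, -, hz⟩ := Scheme.Pullback.exists_preimage_pullback (f := U.ι) (g := QY.spec) w x hw'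
      exact ⟨z, hz⟩⟩
    haveI : IsIso (pullback.snd U.ι QY.spec) :=
      (isIso_iff_isOpenImmersion_and_surjective _).2 ⟨inferInstance, inferInstance⟩
    exact topBij_of_isPullback_sets φ (pullback.snd U.ι QY.spec) _ _ hX G

include hI hlow hsurj hU hUI in
theorem isIso_baseChange0Sh (F : EtDesc.Sh (U : Scheme.{u})) :
    IsIso (EtBC.baseChange0Sh U.ι π (π ⁻¹ᵁ U).ι (π ∣_ U) (morphismRestrict_ι π U) F) := by
  have hw : IsPullback (π ∣_ U) (π ⁻¹ᵁ U).ι U.ι π := isPullback_morphismRestrict π U
  haveI : CompactSpace ↥(U : Scheme.{u}) := isCompact_iff_compactSpace.mp hU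
  haveI : QuasiCompact U.ι := (quasiCompact_iff_compactSpace U.ι).2 inferInstance
  haveI : QuasiCompact (π ⁻¹ᵁ U).ι := MorphismProperty.of_isPullback (P := @QuasiCompact) hw inferInstance
  let T := EtBC.baseChange0Sh U.ι π (π ⁻¹ᵁ U).ι (π ∣_ U) (morphismRestrict_ι π U) F
  let P : ∀ (Ω : Type u) [Field Ω] [IsSepClosed Ω], (Spec (CommRingCat.of Ω) ⟶ Spec (CommRingCat.of A')) → Prop :=
    fun Ω _ _ ξ => Function.Bijective ((Scheme.pointSmallEtale ξ).presheafFiber.map T.hom)
  have hP : EtStalk.Covers (X := Spec (CommRingCat.of A')) P := by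
    intro y'
    let QY := EtBCQ.mkSH (Spec (CommRingCat.of A)) (π y')
    let Q' := EtBCQ.mkSH (Spec (CommRingCat.of A')) y'
    obtain ⟨φ, hl, hφ⟩ := EtBCQ.exists_strict_hom QY (Q'.spec ≫ π) (by rw [Scheme.Hom.comp_apply, Q'.spec_closed])
    haveI := hl
    refine ⟨_, inferInstance, inferInstance, Hens2.geomPt (Spec (CommRingCat.of A')) y' Q'.R, ?_,
      EtBCQ.geomPt_apply y' Q'.R⟩
    refine bijective_stalk_of_strict_at U.ι π (π ⁻¹ᵁ U).ι (π ∣_ U) (morphismRestrict_ι π U) QY Q' φ hφ F ?_
    exact topBij_strict hI hlow hsurj U hU hUI y' QY Q' φ hφ _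
  have : Sheaf.IsLocallyInjective T := EtStalk.isLocallyInjective_of_covers _ hP fun Ω _ _ ξ hξ => hξ.1
  have : Sheaf.IsLocallySurjective T := EtStalk.isLocallySurjective_of_covers _ hP fun Ω _ _ ξ hξ => hξ.2
  exact (Sheaf.isLocallyBijective_iff_isIso _).mp ⟨inferInstance, inferInstance⟩

end Groth.Agent.GabRigH0
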