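import Groth.Agent.GabRig.Main
import Groth.Agent.Hensel.Ops
import Groth.Agent.FiniteExtend.Main
import Mathlib

/-!
# Clopen subsets of finite schemes over the punctured spectrum of a henselian pair and its completion
-/

set_option autoImplicit false
set_option linter.style.haveILetI false

universe u

open CategoryTheory CategoryTheory.Limits AlgebraicGeometry TensorProduct Topology

noncomputable section

namespace Groth.Agent.GabRigH0

variable {A A' B : Type u} [CommRing A] [CommRing A'] [CommRing B] [Algebra A A'] [Algebra A B] {I : Ideal A}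

/-- the map to the tensor product -/
abbrev incl : B →+* B ⊗[A] A' := Algebra.TensorProduct.includeLeftRingHom

theorem map_incl (M : ℕ) :
    ((I.map (algebraMap A B)) ^ M).map (incl (A := A) (A' := A')) =
      (I ^ M).map (algebraMap A (B ⊗[A] A')) := by
  rw [← Ideal.map_pow, Ideal.map_map]
  rfl

variable (hlow : ∀ M, ((I ^ M).map (algebraMap A A')).comap (algebraMap A A') ≤ I ^ M)
  (hsurj : ∀ (M : ℕ) (b : A'), ∃ a, b - algebraMap A A' a ∈ (I ^ M).map (algebraMap A A'))

include hsurj in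
theorem tensor_surj (M : ℕ) (c : B ⊗[A] A') :
    ∃ b, c - incl b ∈ ((I.map (algebraMap A B)) ^ M).map (incl (A := A) (A' := A')) := by
  rw [map_incl]
  induction c using TensorProduct.induction_on with
  | zero => exact ⟨0, by simp⟩
  | tmul b x =>
    obtain ⟨a, ha⟩ := hsurj M x
    refine ⟨a • b, ?_⟩
    have hle : (I ^ M).map (algebraMap A A') ≤
        ((I ^ M).map (algebraMap A (B ⊗[A] A'))).comap
          (Algebra.TensorProduct.includeRight : A' →ₐ[A] B ⊗[A] A') := by
      rw [← Ideal.map_le_iff_le_comap]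
      refine le_of_eq ?_
      change Ideal.map (Algebra.TensorProduct.includeRight : A' →ₐ[A] B ⊗[A] A').toRingHom _ = _
      rw [Ideal.map_map]
      congr 1
      exact (Algebra.TensorProduct.includeRight : A' →ₐ[A] B ⊗[A] A').comp_algebraMap
    have h1 : b ⊗ₜ[A] (1 : A') * (1 ⊗ₜ[A] (x - algebraMap A A' a)) ∈ (I ^ M).map (algebraMap A (B ⊗[A] A')) :=
      Ideal.mul_mem_left _ _ (hle ha)
    convert h1 using 1
    rw [Algebra.TensorProduct.tmul_mul_tmul, mul_one, one_mul, TensorProduct.tmul_sub,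
      Algebra.algebraMap_eq_smul_one, TensorProduct.tmul_smul, TensorProduct.smul_tmul']
    rfl
  | add c d hc hd =>
    obtain ⟨b, hb⟩ := hc
    obtain ⟨b', hb'⟩ := hd
    refine ⟨b + b', ?_⟩
    convert add_mem hb hb' using 1
    rw [map_add]
    abel

include hlow hsurj in
theorem tensor_low (M : ℕ) :
    (((I.map (algebraMap A B)) ^ M).map (incl (A := A) (A' := A'))).comap (incl (A := A) (A' := A')) ≤
      (I.map (algebraMap A B)) ^ M := by
  let J := (I.map (algebraMap A B)) ^ M
  let q : A ⧸ I ^ M →ₐ[A] A' ⧸ (I ^ M).map (algebraMap A A') := Ideal.quotientMapₐ _ (Algebra.ofId A A') Ideal.le_comap_map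
  have hq : Function.Bijective q := by
    constructor
    · rw [injective_iff_map_eq_zero]
      intro x hx
      obtain ⟨a, rfl⟩ := Ideal.Quotient.mk_surjective x
      have hx' : Ideal.Quotient.mk ((I ^ M).map (algebraMap A A')) (algebraMap A A' a) = 0 := hx
      exact Ideal.Quotient.eq_zero_iff_mem.2 (hlow M (Ideal.mem_comap.2 (Ideal.Quotient.eq_zero_iff_mem.1 hx')))
    · intro x
      obtain ⟨y, rfl⟩ := Ideal.Quotient.mk_surjective x
      obtain ⟨a, ha⟩ := hsurj M y
      exact ⟨Ideal.Quotient.mk _ a, ((Ideal.Quotient.eq).2 ha).symm⟩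
  let r : A ⧸ I ^ M →ₐ[A] B ⧸ J := Ideal.quotientMapₐ _ (Algebra.ofId A B) (by
    rw [← Ideal.map_le_iff_le_comap]
    exact le_of_eq (Ideal.map_pow _ _ _))
  let ψ : B ⊗[A] A' →ₐ[A] B ⧸ J := Algebra.TensorProduct.lift (Ideal.Quotient.mkₐ A J)
    ((r.comp (AlgEquiv.ofBijective q hq).symm.toAlgHom).comp (Ideal.Quotient.mkₐ A _)) (fun _ _ => Commute.all _ _)
  have hψ : ψ.toRingHom.comp (incl (A := A) (A' := A')) = Ideal.Quotient.mk J := RingHom.ext fun b => by
    change ψ (b ⊗ₜ[A] (1 : A')) = _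
    rw [Algebra.TensorProduct.lift_tmul]
    simp
  intro b hb
  have h : ψ.toRingHom (incl b) ∈ (J.map (incl (A := A) (A' := A'))).map ψ.toRingHom := Ideal.mem_map_of_mem _ hb
  rw [Ideal.map_map, hψ, Ideal.map_quotient_self] at h
  refine Ideal.Quotient.eq_zero_iff_mem.1 ?_
  exact (RingHom.congr_fun hψ b).symm.trans (Ideal.mem_bot.1 h)

theorem map_le_jacobson_of_integral {R S : Type u} [CommRing R] [CommRing S] [Algebra R S] [Algebra.IsIntegral R S]
    {J : Ideal R} (h : J ≤ Ideal.jacobson ⊥) : J.map (algebraMap R S) ≤ Ideal.jacobson ⊥ := by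
  refine le_sInf fun Q hQ => ?_
  haveI := hQ.2
  rw [Ideal.map_le_iff_le_comap]
  refine h.trans (sInf_le ⟨bot_le, ?_⟩)
  exact Ideal.isMaximal_comap_of_isIntegral_of_isMaximal Q

variable [HenselianRing A I] [Algebra.IsIntegral A B]

include hlow hsurj in
theorem clopen_tensor (hI : I.FG) (hjac : I.map (algebraMap A A') ≤ Ideal.jacobson ⊥) {U : Set (PrimeSpectrum A)}
    (hUo : IsOpen U) (hU : IsCompact U) (hUI : ∀ x, x ∉ U → I ≤ x.asIdeal) :
    (∀ V, IsOpen V → V ⊆ PrimeSpectrum.comap (algebraMap A B) ⁻¹' U →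
      IsOpen (PrimeSpectrum.comap (algebraMap A B) ⁻¹' U \ V) →
      PrimeSpectrum.comap (incl (A := A) (A' := A')) ⁻¹' V = ∅ → V = ∅) ∧
    (∀ V', IsOpen V' →
      V' ⊆ PrimeSpectrum.comap (incl (A := A) (A' := A')) ⁻¹' (PrimeSpectrum.comap (algebraMap A B) ⁻¹' U) →
      IsOpen (PrimeSpectrum.comap (incl (A := A) (A' := A')) ⁻¹' (PrimeSpectrum.comap (algebraMap A B) ⁻¹' U) \ V') →
      ∃ V, IsOpen V ∧ V ⊆ PrimeSpectrum.comap (algebraMap A B) ⁻¹' U ∧
        IsOpen (PrimeSpectrum.comap (algebraMap A B) ⁻¹' U \ V) ∧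
        PrimeSpectrum.comap (incl (A := A) (A' := A')) ⁻¹' V = V') := by
  have hJ : (I.map (algebraMap A B)).FG := hI.map _
  haveI := Hensel.henselianRing_integral A I B
  have hUB : IsCompact (PrimeSpectrum.comap (algebraMap A B) ⁻¹' U) := by
    obtain ⟨K₀, hK₀, eK₀⟩ := PrimeSpectrum.isCompact_isOpen_iff_ideal.mp ⟨hU, hUo⟩
    refine (PrimeSpectrum.isCompact_isOpen_iff_ideal.mpr ⟨K₀.map (algebraMap A B), hK₀.map _, ?_⟩).1
    ext Q
    rw [← eK₀, Set.mem_preimage, Set.mem_compl_iff, Set.mem_compl_iff, PrimeSpectrum.mem_zeroLocus,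
      PrimeSpectrum.mem_zeroLocus, SetLike.coe_subset_coe, SetLike.coe_subset_coe, Ideal.map_le_iff_le_comap]
    rfl
  have hUJ : ∀ x, x ∉ PrimeSpectrum.comap (algebraMap A B) ⁻¹' U → I.map (algebraMap A B) ≤ x.asIdeal :=
    fun x hx => Ideal.map_le_iff_le_comap.mpr (hUI _ hx)
  have hjac' : (I.map (algebraMap A B)).map (incl (A := A) (A' := A')) ≤ Ideal.jacobson ⊥ := by
    letI : Algebra A' (B ⊗[A] A') := Algebra.TensorProduct.rightAlgebra
    haveI : IsScalarTower A A' (B ⊗[A] A') := IsScalarTower.of_algebraMap_eq fun a =>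
      ((Algebra.TensorProduct.includeRight : A' →ₐ[A] B ⊗[A] A').commutes a).symm
    haveI : Algebra.IsIntegral A' (B ⊗[A] A') := ⟨fun c => by
      induction c using TensorProduct.induction_on with
      | zero => exact isIntegral_zero
      | tmul b x =>
        have hb : IsIntegral A' (b ⊗ₜ[A] (1 : A')) := IsIntegral.tower_top
          ((Algebra.IsIntegral.isIntegral (R := A) b).map (Algebra.TensorProduct.includeLeft : B →ₐ[A] B ⊗[A] A'))
        have e : b ⊗ₜ[A] x = b ⊗ₜ[A] (1 : A') * algebraMap A' (B ⊗[A] A') x := by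
          change _ = _ * ((1 : B) ⊗ₜ[A] x)
          rw [Algebra.TensorProduct.tmul_mul_tmul, mul_one, one_mul]
        rw [e]
        exact hb.mul isIntegral_algebraMap
      | add c d hc hd => exact hc.add hd⟩
    have h1 := map_le_jacobson_of_integral (S := B ⊗[A] A') hjac
    rw [Ideal.map_map] at h1 ⊢
    have e : (incl (A := A) (A' := A') (B := B)).comp (algebraMap A B) =
        (algebraMap A' (B ⊗[A] A')).comp (algebraMap A A') := RingHom.ext fun a => by
      rw [← IsScalarTower.algebraMap_eq]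
      rfl
    exact le_of_eq_of_le (congrArg (fun f => Ideal.map f I) e) h1
  exact ⟨fun V => GabRig.eq_empty hJ (tensor_low hlow hsurj) (tensor_surj hsurj) HenselianRing.jac hUB hUJ,
    fun V' => GabRig.descend hJ (tensor_low hlow hsurj) (tensor_surj hsurj) hjac'
      (hUo.preimage (PrimeSpectrum.continuous_comap _)) hUB hUJ⟩

end Groth.Agent.GabRigH0

namespace Groth.Agent.GabRigH0

/-- clopen subsets of a finite scheme over `U` and of its pullback to the completion -/
theorem clopen_finite {A : Type u} [CommRing A] (I : Ideal A) (hI : I.FG) [HenselianRing A I]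
    (U : (Spec (CommRingCat.of A)).Opens) (hU : IsCompact (U : Set (Spec (CommRingCat.of A))))
    (hUI : ∀ x : Spec (CommRingCat.of A), x ∉ U → I ≤ x.asIdeal)
    {Y : Scheme.{u}} (g : Y ⟶ (U : Scheme.{u})) [IsFinite g] :
    (∀ C : Set Y, IsClopen C →
      pullback.snd ((Spec.map (CommRingCat.ofHom (algebraMap A (AdicCompletion I A)))) ∣_ U) g ⁻¹' C = ∅ → C = ∅) ∧
    (∀ C', IsClopen C' → ∃ C : Set Y, IsClopen C ∧
      pullback.snd ((Spec.map (CommRingCat.ofHom (algebraMap A (AdicCompletion I A)))) ∣_ U) g ⁻¹' C = C') := by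
  obtain ⟨B, _, _, i, hB, hi⟩ := FiniteExtend.exists_finite_extension A U hU Y g
  let Â := AdicCompletion I A
  let π := Spec.map (CommRingCat.ofHom (algebraMap A Â))
  let pA := Spec.map (CommRingCat.ofHom (algebraMap A B))
  let pB := Spec.map (CommRingCat.ofHom (incl (A := A) (A' := Â) (B := B)))
  let pC := Spec.map (CommRingCat.ofHom
    (Algebra.TensorProduct.includeRight : Â →ₐ[A] B ⊗[A] Â).toRingHom)
  let m := π ∣_ U
  have hC : IsPullback pB pC pA π :=
    isPullback_SpecMap_of_isPushout _ _ _ _ (CommRingCat.isPushout_tensorProduct A B Â)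
  have hP : IsPullback (pullback.snd m g ≫ i) (pullback.fst m g) pA ((π ⁻¹ᵁ U).ι ≫ π) := by
    rw [← morphismRestrict_ι]
    exact (IsPullback.of_hasPullback m g).flip.paste_horiz hi
  let k : pullback m g ⟶ Spec (CommRingCat.of (B ⊗[A] Â)) :=
    hC.lift (pullback.snd m g ≫ i) (pullback.fst m g ≫ (π ⁻¹ᵁ U).ι) (by rw [hP.w]; simp [Category.assoc])
  have hk : IsPullback k (pullback.fst m g) pC (π ⁻¹ᵁ U).ι := by
    refine IsPullback.of_right ?_ (hC.lift_snd _ _ _) hC
    rw [hC.lift_fst]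
    exact hP
  haveI : IsOpenImmersion i := MorphismProperty.of_isPullback hi.flip inferInstance
  haveI : IsOpenImmersion k := MorphismProperty.of_isPullback hk.flip inferInstance
  let U₀ : Set (PrimeSpectrum A) := (U : Set (Spec (CommRingCat.of A)))
  let UB : Set (PrimeSpectrum B) := PrimeSpectrum.comap (algebraMap A B) ⁻¹' U₀
  have hri : Set.range i = UB := by
    refine Set.Subset.antisymm ?_ fun x hx => ?_
    · rintro _ ⟨y, rfl⟩
      change pA (i y) ∈ U₀
      rw [← Scheme.Hom.comp_apply, hi.w, Scheme.Hom.comp_apply]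
      exact (g y).2
    · obtain ⟨y, hy, -⟩ := Scheme.exists_preimage_of_isPullback hi x ⟨pA x, hx⟩ rfl
      exact ⟨y, hy⟩
  have hik : ∀ w, i (pullback.snd m g w) = PrimeSpectrum.comap (incl (A := A) (A' := Â)) (k w) := fun w => by
    change _ = pB (k w)
    rw [← Scheme.Hom.comp_apply k, hC.lift_fst]
    rfl
  have hrk : Set.range k = PrimeSpectrum.comap (incl (A := A) (A' := Â)) ⁻¹' UB := by
    refine Set.Subset.antisymm ?_ fun x hx => ?_
    · rintro _ ⟨w, rfl⟩
      change PrimeSpectrum.comap (incl (A := A) (A' := Â)) (k w) ∈ UB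
      rw [← hik, ← hri]
      exact ⟨_, rfl⟩
    · have hx' : π (pC x) ∈ U := by
        rw [← Scheme.Hom.comp_apply, ← hC.w, Scheme.Hom.comp_apply]
        exact hx
      obtain ⟨y, hy, -⟩ := Scheme.exists_preimage_of_isPullback hk x ⟨pC x, hx'⟩ rfl
      exact ⟨y, hy⟩
  have hdiff : ∀ {P Q : Scheme.{u}} (j : P ⟶ Q) [IsOpenImmersion j] (C : Set P), Set.range j \ j '' C = j '' Cᶜ :=
    fun j _ C => (Set.range_sdiff_image j.isOpenEmbedding.injective C)
  obtain ⟨hinj, hsurj'⟩ := clopen_tensor (B := B) (GabRig.compl_low I hI) (GabRig.compl_surj I hI) hI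
    (GabRig.compl_jacobson I hI) (U := U₀) U.2 hU hUI
  refine ⟨fun C hC0 h0 => ?_, fun C' hC' => ?_⟩
  · refine Set.image_eq_empty.1 (hinj (i '' C) (i.isOpenEmbedding.isOpenMap _ hC0.isOpen)
      ((Set.image_subset_range _ _).trans hri.le) ?_ ?_)
    · change IsOpen (UB \ _)
      rw [← hri]
      erw [hdiff i C]
      exact i.isOpenEmbedding.isOpenMap _ hC0.compl.isOpen
    · refine Set.eq_empty_iff_forall_notMem.mpr fun Q hQ => ?_
      obtain ⟨w, rfl⟩ : Q ∈ Set.range k := by
        rw [hrk]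
        exact Set.preimage_mono ((Set.image_subset_range _ _).trans hri.le) hQ
      rw [Set.mem_preimage, ← hik] at hQ
      obtain ⟨y, hy, hy'⟩ := hQ
      refine Set.eq_empty_iff_forall_notMem.1 h0 w ?_
      rw [Set.mem_preimage]
      exact (i.isOpenEmbedding.injective hy') ▸ hy
  · obtain ⟨V, hVo, hVU, hWo, hV⟩ := hsurj' (k '' C') (k.isOpenEmbedding.isOpenMap _ hC'.isOpen)
      ((Set.image_subset_range _ _).trans hrk.le) (by
        change IsOpen (PrimeSpectrum.comap (incl (A := A) (A' := Â)) ⁻¹' UB \ _)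
        rw [← hrk]
        erw [hdiff k C']
        exact k.isOpenEmbedding.isOpenMap _ hC'.compl.isOpen)
    refine ⟨i ⁻¹' V, ⟨⟨?_⟩, hVo.preimage i.continuous⟩, ?_⟩
    · have : (i ⁻¹' V)ᶜ = i ⁻¹' (UB \ V) := by
        ext y
        exact ⟨fun h => ⟨hri ▸ ⟨y, rfl⟩, h⟩, fun h => h.2⟩
      rw [this]
      exact hWo.preimage i.continuous
    · ext w
      rw [Set.mem_preimage, Set.mem_preimage, hik]
      change k w ∈ PrimeSpectrum.comap (incl (A := A) (A' := Â)) ⁻¹' V ↔ _
      rw [hV]
      exact k.isOpenEmbedding.injective.mem_set_image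

end Groth.Agent.GabRigH0
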