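import Groth.Agent.GabRigH0.Main
import Mathlib

/-!
# Rigidity of global sections for maps of rings with the same quotients modulo powers of a henselian ideal
-/

set_option autoImplicit false
set_option backward.isDefEq.respectTransparency false
set_option linter.style.haveILetI false

universe u

open CategoryTheory CategoryTheory.Limits AlgebraicGeometry TensorProduct Topology

noncomputable section

namespace Groth.Agent.GabRigH0

open Groth.Agent.EtH0Pair

variable {A A' : Type u} [CommRing A] [CommRing A'] [Algebra A A'] {I : Ideal A} [HenselianRing A I]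
  (hI : I.FG) (hlow : ∀ M, ((I ^ M).map (algebraMap A A')).comap (algebraMap A A') ≤ I ^ M)
  (hsurj : ∀ (M : ℕ) (b : A'), ∃ a, b - algebraMap A A' a ∈ (I ^ M).map (algebraMap A A'))
  (hjac : I.map (algebraMap A A') ≤ Ideal.jacobson ⊥)
  {X Z : Scheme.{u}} (i₀ : X ⟶ Spec (CommRingCat.of A)) [IsOpenImmersion i₀] [CompactSpace X]
  (hXI : ∀ x : Spec (CommRingCat.of A), x ∉ Set.range i₀ → I ≤ x.asIdeal)
  (m : Z ⟶ X) (j : Z ⟶ Spec (CommRingCat.of A'))
  (hP : IsPullback m j i₀ (Spec.map (CommRingCat.ofHom (algebraMap A A'))))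

include hI hlow hsurj hjac hXI hP in
/-- clopen subsets of a finite scheme over `X` and of its pullback -/
theorem clopen_finite_gen {Y : Scheme.{u}} (g : Y ⟶ X) [IsFinite g] :
    (∀ C : Set Y, IsClopen C → pullback.snd m g ⁻¹' C = ∅ → C = ∅) ∧
    (∀ C', IsClopen C' → ∃ C : Set Y, IsClopen C ∧ pullback.snd m g ⁻¹' C = C') := by
  let U := i₀.opensRange
  let e := i₀.isoOpensRange
  have he : e.hom ≫ U.ι = i₀ := IsOpenImmersion.isoOfRangeEq_hom_fac i₀ U.ι _
  have hU : IsCompact (U : Set (Spec (CommRingCat.of A))) := isCompact_range i₀.continuous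
  haveI : IsFinite (g ≫ e.hom) := inferInstance
  obtain ⟨B, _, _, i, hB, hi'⟩ := FiniteExtend.exists_finite_extension A U hU Y (g ≫ e.hom)
  let pA := Spec.map (CommRingCat.ofHom (algebraMap A B))
  have hi : IsPullback i g pA i₀ :=
    hi'.of_iso (Iso.refl _) (Iso.refl _) e.symm (Iso.refl _) (by simp) (by simp) (by simp [pA])
      (by rw [Iso.refl_hom, Category.comp_id]; exact (Iso.inv_comp_eq e).2 he.symm |>.symm)
  let π := Spec.map (CommRingCat.ofHom (algebraMap A A'))
  let pB := Spec.map (CommRingCat.ofHom (incl (A := A) (A' := A') (B := B)))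
  let pC := Spec.map (CommRingCat.ofHom
    (Algebra.TensorProduct.includeRight : A' →ₐ[A] B ⊗[A] A').toRingHom)
  have hC : IsPullback pB pC pA π :=
    isPullback_SpecMap_of_isPushout _ _ _ _ (CommRingCat.isPushout_tensorProduct A B A')
  have hP' : IsPullback (pullback.snd m g ≫ i) (pullback.fst m g) pA (j ≫ π) := by
    rw [← hP.w]
    exact (IsPullback.of_hasPullback m g).flip.paste_horiz hi
  let k : pullback m g ⟶ Spec (CommRingCat.of (B ⊗[A] A')) :=
    hC.lift (pullback.snd m g ≫ i) (pullback.fst m g ≫ j) (by rw [hP'.w]; simp [Category.assoc])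
  have hk : IsPullback k (pullback.fst m g) pC j := by
    refine IsPullback.of_right ?_ (hC.lift_snd _ _ _) hC
    rw [hC.lift_fst]
    exact hP'
  haveI : IsOpenImmersion j := MorphismProperty.of_isPullback hP inferInstance
  haveI : IsOpenImmersion i := MorphismProperty.of_isPullback hi.flip inferInstance
  haveI : IsOpenImmersion k := MorphismProperty.of_isPullback hk.flip inferInstance
  let U₀ : Set (PrimeSpectrum A) := (U : Set (Spec (CommRingCat.of A)))
  let UB : Set (PrimeSpectrum B) := PrimeSpectrum.comap (algebraMap A B) ⁻¹' U₀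
  have hri : Set.range i = UB := by
    refine Set.Subset.antisymm ?_ fun x hx => ?_
    · rintro _ ⟨y, rfl⟩
      change pA (i y) ∈ Set.range i₀
      rw [← Scheme.Hom.comp_apply, hi.w, Scheme.Hom.comp_apply]
      exact ⟨_, rfl⟩
    · obtain ⟨x₀, hx₀⟩ := (hx : pA x ∈ Set.range i₀)
      obtain ⟨y, hy, -⟩ := Scheme.exists_preimage_of_isPullback hi x x₀ hx₀.symm
      exact ⟨y, hy⟩
  have hik : ∀ w, i (pullback.snd m g w) = PrimeSpectrum.comap (incl (A := A) (A' := A')) (k w) := fun w => by
    change _ = pB (k w)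
    rw [← Scheme.Hom.comp_apply k, hC.lift_fst]
    rfl
  have hrk : Set.range k = PrimeSpectrum.comap (incl (A := A) (A' := A')) ⁻¹' UB := by
    refine Set.Subset.antisymm ?_ fun x hx => ?_
    · rintro _ ⟨w, rfl⟩
      change PrimeSpectrum.comap (incl (A := A) (A' := A')) (k w) ∈ UB
      rw [← hik, ← hri]
      exact ⟨_, rfl⟩
    · have hx' : π (pC x) ∈ Set.range i₀ := by
        rw [← Scheme.Hom.comp_apply, ← hC.w, Scheme.Hom.comp_apply]
        exact hx
      obtain ⟨x₀, hx₀⟩ := hx'
      obtain ⟨z, -, hz⟩ := Scheme.exists_preimage_of_isPullback hP x₀ (pC x) hx₀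
      obtain ⟨y, hy, -⟩ := Scheme.exists_preimage_of_isPullback hk x z hz.symm
      exact ⟨y, hy⟩
  have hdiff : ∀ {P Q : Scheme.{u}} (t : P ⟶ Q) [IsOpenImmersion t] (C : Set P), Set.range t \ t '' C = t '' Cᶜ :=
    fun t _ C => (Set.range_sdiff_image t.isOpenEmbedding.injective C)
  obtain ⟨hinj, hsurj'⟩ := clopen_tensor (B := B) hlow hsurj hI hjac (U := U₀) U.2 hU hXI
  refine ⟨fun C hC0 h0 => ?_, fun C' hC' => ?_⟩
  · refine Set.image_eq_empty.1 (hinj (i '' C) (i.isOpenEmbedding.isOpenMap _ hC0.isOpen)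
      ((Set.image_subset_range _ _).trans hri.le) ?_ ?_)
    · change IsOpen (UB \ _)
      rw [← hri]
      erw [hdiff i C]
      exact i.isOpenEmbedding.isOpenMap _ hC0.compl.isOpen
    · refine Set.eq_empty_iff_forall_notMem.mpr fun Q hQ => ?_
      obtain ⟨w, rfl⟩ : Q ∈ Set.range k := by
        rw [hrk]
        exact Set.preimage_mono ((Set.image_subset_range _ _).trans hri.le) hQ
      rw [Set.mem_preimage, ← hik] at hQ
      obtain ⟨y, hy, hy'⟩ := hQ
      refine Set.eq_empty_iff_forall_notMem.1 h0 w ?_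
      rw [Set.mem_preimage]
      exact (i.isOpenEmbedding.injective hy') ▸ hy
  · obtain ⟨V, hVo, hVU, hWo, hV⟩ := hsurj' (k '' C') (k.isOpenEmbedding.isOpenMap _ hC'.isOpen)
      ((Set.image_subset_range _ _).trans hrk.le) (by
        change IsOpen (PrimeSpectrum.comap (incl (A := A) (A' := A')) ⁻¹' UB \ _)
        rw [← hrk]
        erw [hdiff k C']
        exact k.isOpenEmbedding.isOpenMap _ hC'.compl.isOpen)
    refine ⟨i ⁻¹' V, ⟨⟨?_⟩, hVo.preimage i.continuous⟩, ?_⟩
    · have : (i ⁻¹' V)ᶜ = i ⁻¹' (UB \ V) := by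
        ext y
        exact ⟨fun h => ⟨hri ▸ ⟨y, rfl⟩, h⟩, fun h => h.2⟩
      rw [this]
      exact hWo.preimage i.continuous
    · ext w
      rw [Set.mem_preimage, Set.mem_preimage, hik]
      change k w ∈ PrimeSpectrum.comap (incl (A := A) (A' := A')) ⁻¹' V ↔ _
      rw [hV]
      exact k.isOpenEmbedding.injective.mem_set_image

include hI hlow hsurj hjac hXI hP in
/-- pullback of global sections is bijective -/
theorem topBij_rigid (G : EtDesc.Sh X) : TopBij m G := by
  haveI : QuasiSeparatedSpace X := quasiSeparatedSpace_of_quasiSeparated i₀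
  haveI : IsOpenImmersion j := MorphismProperty.of_isPullback hP inferInstance
  haveI : QuasiCompact i₀ := (quasiCompact_iff_compactSpace i₀).2 inferInstance
  haveI : QuasiCompact j := MorphismProperty.of_isPullback (P := @QuasiCompact) hP inferInstance
  haveI : CompactSpace Z := QuasiCompact.compactSpace_of_compactSpace j
  haveI : QuasiSeparatedSpace Z := quasiSeparatedSpace_of_quasiSeparated j
  have hV : ∀ V : X.Opens, Set.range m ⊆ V → V = ⊤ := fun V hV => by
    let t := Scheme.IdealSheafData.subschemeι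
      (Scheme.IdealSheafData.vanishingIdeal (X := X) ⟨(V : Set X)ᶜ, V.2.isClosed_compl⟩)
    have ht : Set.range t = (V : Set X)ᶜ := by
      rw [Scheme.IdealSheafData.range_subschemeι, Scheme.IdealSheafData.coe_support_vanishingIdeal]
      rfl
    have h := (clopen_finite_gen hI hlow hsurj hjac i₀ hXI m j hP t).1 Set.univ isClopen_univ (by
      refine Set.eq_empty_iff_forall_notMem.mpr fun w _ => ?_
      have h1 : t (pullback.snd m t w) ∈ (V : Set X) := by
        rw [← Scheme.Hom.comp_apply, ← pullback.condition, Scheme.Hom.comp_apply]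
        exact hV ⟨_, rfl⟩
      exact (ht.le ⟨_, rfl⟩) h1)
    ext x
    simp only [TopologicalSpace.Opens.coe_top, Set.mem_univ, iff_true]
    by_contra hx
    obtain ⟨y, -⟩ := ht.ge hx
    exact Set.eq_empty_iff_forall_notMem.mp h y trivial
  have hext : ExtMap m := fun Y g hg N f => by
    haveI := hg
    haveI : IsFinite (pullback.fst m g) := MorphismProperty.pullback_fst _ _ inferInstance
    haveI : CompactSpace ↥(pullback m g) := QuasiCompact.compactSpace_of_compactSpace (pullback.fst m g)
    obtain ⟨h1, h2⟩ := clopen_finite_gen hI hlow hsurj hjac i₀ hXI m j hP g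
    exact exists_extension_of_clopen _ (pullback.snd m g).continuous h1 h2 f
  exact topBij_sets m hV (topBij_map m hV hext) G

end Groth.Agent.GabRigH0
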