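import Groth.Agent.GabRigH0.Abs
import Groth.Agent.GabRigH0.Clopen
import Mathlib

/-!
# Gabber rigidity for global sections of sheaves of sets
-/

set_option autoImplicit false
set_option backward.isDefEq.respectTransparency false
set_option linter.style.haveILetI false

universe u

open CategoryTheory CategoryTheory.Limits AlgebraicGeometry

noncomputable section

namespace Groth.Agent.GabRigH0

open Groth.Agent.EtH0Pair

theorem exists_extension_of_clopen {W Y : Type u} [TopologicalSpace W] [TopologicalSpace Y] [CompactSpace W]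
    (s : W → Y) (hs : Continuous s) (hinj : ∀ C : Set Y, IsClopen C → s ⁻¹' C = ∅ → C = ∅)
    (hsurj : ∀ C' : Set W, IsClopen C' → ∃ C : Set Y, IsClopen C ∧ s ⁻¹' C = C') {N : Type u}
    (f : LocallyConstant W N) : ∃ g : LocallyConstant Y N, ∀ w, g (s w) = f w := by
  classical
  haveI : Finite (Set.range f) := f.range_finite.to_subtype
  choose C hC hCf using fun n : Set.range f => hsurj (f ⁻¹' {n.1}) (f.isLocallyConstant.isClopen_fiber _)
  have hcover : ∀ y, ∃ n, y ∈ C n := by
    have h := hinj (⋃ n, C n)ᶜ (isClopen_iUnion_of_finite hC).compl (by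
      refine Set.eq_empty_iff_forall_notMem.mpr fun w hw => hw (Set.mem_iUnion.mpr ⟨⟨f w, w, rfl⟩, ?_⟩)
      change w ∈ s ⁻¹' C _
      rw [hCf]
      exact rfl)
    intro y
    exact Set.mem_iUnion.mp ((Set.compl_empty_iff.mp h).ge trivial)
  have hdisj : ∀ n m y, y ∈ C n → y ∈ C m → n = m := fun n m y hn hm => by
    by_contra hne
    have h := hinj (C n ∩ C m) ((hC n).inter (hC m)) (by
      rw [Set.preimage_inter, hCf, hCf]
      exact Set.eq_empty_iff_forall_notMem.mpr fun w hw => hne (Subtype.ext (hw.1.symm.trans hw.2)))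
    exact Set.eq_empty_iff_forall_notMem.mp h y ⟨hn, hm⟩
  choose n hn using hcover
  refine ⟨⟨fun y => (n y).1, IsLocallyConstant.comp ?_ Subtype.val⟩, fun w => ?_⟩
  · refine IsLocallyConstant.iff_isOpen_fiber.mpr fun m => ?_
    have : n ⁻¹' {m} = C m := Set.ext fun y => ⟨fun h => h ▸ hn y, fun h => hdisj _ _ y (hn y) h⟩
    rw [this]
    exact (hC m).isOpen
  · change (n (s w)).1 = f w
    have h : w ∈ s ⁻¹' C (n (s w)) := hn (s w)
    rw [hCf] at h
    exact h.symm

variable {A : Type u} [CommRing A] (I : Ideal A) (hI : I.FG) [HenselianRing A I]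
  (U : (Spec (CommRingCat.of A)).Opens) (hU : IsCompact (U : Set (Spec (CommRingCat.of A))))
  (hUI : ∀ x : Spec (CommRingCat.of A), x ∉ U → I ≤ x.asIdeal)

/-- the completion morphism over `U` -/
abbrev complMor : ((Spec.map (CommRingCat.ofHom (algebraMap A (AdicCompletion I A)))) ⁻¹ᵁ U).toScheme ⟶ (U : Scheme.{u}) :=
  (Spec.map (CommRingCat.ofHom (algebraMap A (AdicCompletion I A)))) ∣_ U

include hI hU hUI in
theorem eq_top_of_range_subset (V : (U : Scheme.{u}).Opens) (hV : Set.range (complMor I U) ⊆ V) : V = ⊤ := by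
  let Y : Scheme.{u} := (AlgebraicGeometry.Scheme.IdealSheafData.vanishingIdeal
    (X := (U : Scheme.{u})) ⟨(V : Set (U : Scheme.{u}))ᶜ, V.2.isClosed_compl⟩).subscheme
  let j : Y ⟶ (U : Scheme.{u}) := Scheme.IdealSheafData.subschemeι _
  have hj : Set.range j = (V : Set (U : Scheme.{u}))ᶜ := by
    rw [Scheme.IdealSheafData.range_subschemeι, Scheme.IdealSheafData.coe_support_vanishingIdeal]
    rfl
  have h := (clopen_finite I hI U hU hUI j).1 Set.univ isClopen_univ (by
    refine Set.eq_empty_iff_forall_notMem.mpr fun w _ => ?_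
    have h1 : j (pullback.snd (complMor I U) j w) ∈ (V : Set (U : Scheme.{u})) := by
      rw [← Scheme.Hom.comp_apply, ← pullback.condition, Scheme.Hom.comp_apply]
      exact hV ⟨_, rfl⟩
    exact (hj.le ⟨_, rfl⟩) h1)
  ext x
  simp only [TopologicalSpace.Opens.coe_top, Set.mem_univ, iff_true]
  by_contra hx
  obtain ⟨y, -⟩ := hj.ge hx
  exact Set.eq_empty_iff_forall_notMem.mp h y trivial

include hI hU hUI in
theorem bijective_secPull (F : EtDesc.Sh (U : Scheme.{u})) : Function.Bijective (EtDesc.secPull (complMor I U) F) := by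
  haveI : CompactSpace ↥(U : Scheme.{u}) := isCompact_iff_compactSpace.mp hU
  haveI : CompactSpace ↥((Spec.map (CommRingCat.ofHom (algebraMap A (AdicCompletion I A)))) ⁻¹ᵁ U).toScheme :=
    isCompact_iff_compactSpace.mp ((Spec.map (CommRingCat.ofHom (algebraMap A (AdicCompletion I A)))).isCompact_preimage hU)
  haveI : QuasiSeparatedSpace ↥((Spec.map (CommRingCat.ofHom (algebraMap A (AdicCompletion I A)))) ⁻¹ᵁ U).toScheme :=
    quasiSeparatedSpace_of_quasiSeparated ((Spec.map (CommRingCat.ofHom (algebraMap A (AdicCompletion I A)))) ⁻¹ᵁ U).ι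
  haveI : QuasiSeparatedSpace ↥(U : Scheme.{u}) := quasiSeparatedSpace_of_quasiSeparated U.ι
  have hV := eq_top_of_range_subset I hI U hU hUI
  have hext : ExtMap (complMor I U) := fun Y g hg N f => by
    haveI := hg
    haveI : IsFinite (pullback.fst (complMor I U) g) := MorphismProperty.pullback_fst _ _ inferInstance
    haveI : CompactSpace ↥(pullback (complMor I U) g) :=
      QuasiCompact.compactSpace_of_compactSpace (pullback.fst (complMor I U) g)
    obtain ⟨h1, h2⟩ := clopen_finite I hI U hU hUI g
    exact exists_extension_of_clopen _ (pullback.snd (complMor I U) g).continuous h1 h2 f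
  have h := topBij_sets (complMor I U) hV (topBij_map (complMor I U) hV hext) F
  have e : topδ (complMor I U) = (EtCore.bcTopIso (complMor I U)).inv :=
    (EtCore.bcTopIsTerminal (complMor I U)).hom_ext _ _
  unfold TopBij at h
  rw [e] at h
  exact h

end Groth.Agent.GabRigH0
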